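import Cfsg.Agent.H546.Der.Alt

/-!
# Three classes of derangements: the alternating group of degree 7 (helper546, S3502, task 2982)
-/

set_option autoImplicit false
set_option linter.unusedSectionVars false

namespace Cfsg.Agent.H546.Der

open Equiv Equiv.Perm MulAction Cfsg.Agent.H439.Der Cfsg.Agent.H548.DerAlt Cfsg.Agent.H394 Cfsg.Agent.H394.SqBasic
open scoped Pointwise

variable {n : ℕ}

theorem exists_of_not_miss {R : Subgroup (alternatingGroup (Fin n))} {c : Multiset ℕ} (h : ¬ Miss R c) :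
    ∃ g : R, ((g : alternatingGroup (Fin n)) : Perm (Fin n)).cycleType = c := by
  unfold Miss at h
  push Not at h
  obtain ⟨g, hg, hc⟩ := h
  exact ⟨⟨g, hg⟩, hc⟩

theorem orderOf_eq_lcm {R : Subgroup (alternatingGroup (Fin n))} (g : R) :
    orderOf g = (((g : alternatingGroup (Fin n)) : Perm (Fin n)).cycleType).lcm := by
  rw [lcm_cycleType, Subgroup.orderOf_coe, Subgroup.orderOf_coe]

theorem dvd_of_not_miss {R : Subgroup (alternatingGroup (Fin n))} {c : Multiset ℕ} (h : ¬ Miss R c) :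
    c.lcm ∣ Nat.card R := by
  obtain ⟨g, hg⟩ := exists_of_not_miss h
  rw [← hg, ← orderOf_eq_lcm]
  exact orderOf_dvd_natCard g

theorem nine_dvd {R : Subgroup (alternatingGroup (Fin n))} (h1 : ¬ Miss R {3}) (h2 : ¬ Miss R {3, 3}) :
    9 ∣ Nat.card R := by
  classical
  by_contra h9
  have h3F : Fact (Nat.Prime 3) := ⟨by norm_num⟩
  obtain ⟨u, hu⟩ := exists_of_not_miss h1
  obtain ⟨v, hv⟩ := exists_of_not_miss h2
  have hu3 : orderOf u = 3 := by rw [orderOf_eq_lcm, hu]; rfl
  have hv3 : orderOf v = 3 := by rw [orderOf_eq_lcm, hv]; rfl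
  have key : ∀ w : R, orderOf w = 3 → ∃ P : Sylow 3 R, (P : Subgroup R) = Subgroup.zpowers w := by
    intro w hw
    have h4 : IsPGroup 3 (Subgroup.zpowers w) := by
      rw [IsPGroup.iff_card, Nat.card_zpowers, hw]
      exact ⟨1, by norm_num⟩
    obtain ⟨P, hP⟩ := h4.exists_le_sylow
    refine ⟨P, (Subgroup.eq_of_le_of_card_ge hP ?_).symm⟩
    rw [Nat.card_zpowers, hw]
    obtain ⟨j, hj⟩ := IsPGroup.iff_card.1 P.2
    have hj1 : j ≤ 1 := by
      by_contra hcon
      push Not at hcon
      apply h9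
      have h5 : 3 ^ 2 ∣ Nat.card (P : Subgroup R) := by rw [hj]; exact Nat.pow_dvd_pow 3 hcon
      exact h5.trans (Subgroup.card_subgroup_dvd_card _)
    rw [hj]
    calc 3 ^ j ≤ 3 ^ 1 := Nat.pow_le_pow_right (by norm_num) hj1
      _ = 3 := by norm_num
  obtain ⟨P, hP⟩ := key u hu3
  obtain ⟨Q, hQ⟩ := key v hv3
  obtain ⟨g, hg⟩ := MulAction.exists_smul_eq R Q P
  have h4 : g * v * g⁻¹ ∈ Subgroup.zpowers u := by
    rw [← hP, ← hg]
    have h5 : v ∈ (Q : Subgroup R) := by rw [hQ]; exact Subgroup.mem_zpowers v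
    have h6 : MulAut.conj g • v ∈ ((MulAut.conj g • (Q : Subgroup R)) : Subgroup R) :=
      Subgroup.smul_mem_pointwise_smul v (MulAut.conj g) _ h5
    exact h6
  obtain ⟨k, hk⟩ := Subgroup.mem_zpowers_iff.1 h4
  have h5 : (((g * v * g⁻¹ : R) : alternatingGroup (Fin n)) : Perm (Fin n)).cycleType = {3, 3} := by
    rw [← hv]
    simp only [Subgroup.coe_mul, Subgroup.coe_inv]
    exact cycleType_conj
  have h6 : u ^ k = 1 ∨ u ^ k = u ∨ u ^ k = u⁻¹ := by
    have h7 : u ^ k = u ^ (k % 3) := by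
      have := zpow_mod_orderOf u k
      rw [hu3] at this
      exact this.symm
    have h8 : k % 3 = 0 ∨ k % 3 = 1 ∨ k % 3 = 2 := by omega
    rcases h8 with h8 | h8 | h8
    · left; rw [h7, h8, zpow_zero]
    · right; left; rw [h7, h8, zpow_one]
    · right; right
      rw [h7, h8, eq_inv_iff_mul_eq_one]
      have h9 : u ^ 3 = 1 := by rw [← hu3]; exact pow_orderOf_eq_one u
      rw [← h9]
      rfl
  rw [← hk] at h5
  rcases h6 with h6 | h6 | h6
  · rw [h6] at h5
    simp only [Subgroup.coe_one, cycleType_one] at h5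
    have := congrArg Multiset.card h5
    simp at this
  · rw [h6, hu] at h5
    have := congrArg Multiset.card h5
    simp at this
  · rw [h6] at h5
    simp only [Subgroup.coe_inv, cycleType_inv, hu] at h5
    have := congrArg Multiset.card h5
    simp at this

/-! ### the stabilizer of a set -/

section st

variable {α : Type*} [Fintype α] [DecidableEq α] (p : α → Prop) [DecidablePred p]

/-- the stabilizer of `p` -/
def St : Subgroup (Perm α) where
  carrier := {σ | ∀ x, p (σ x) ↔ p x}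
  one_mem' := fun x => Iff.rfl
  mul_mem' := fun {a b} ha hb x => by
    rw [Perm.mul_apply]
    exact (ha (b x)).trans (hb x)
  inv_mem' := fun {a} ha x => by
    have := ha (a⁻¹ x)
    rw [← Perm.mul_apply, mul_inv_cancel, Perm.one_apply] at this
    exact this.symm

theorem mem_St {σ : Perm α} : σ ∈ St p ↔ ∀ x, p (σ x) ↔ p x := Iff.rfl

/-- the restriction to `p` -/
def rA : St p →* Perm {x // p x} where
  toFun σ := σ.1.subtypePerm σ.2
  map_one' := by ext x; rfl
  map_mul' := fun σ τ => by ext x; rfl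

/-- the restriction to the complement -/
def rB : St p →* Perm {x // ¬ p x} where
  toFun σ := σ.1.subtypePerm (fun x => not_congr (σ.2 x))
  map_one' := by ext x; rfl
  map_mul' := fun σ τ => by ext x; rfl

theorem rA_apply (σ : St p) (x : {x // p x}) : ((rA p σ x : {x // p x}) : α) = σ.1 x := rfl
theorem rB_apply (σ : St p) (x : {x // ¬ p x}) : ((rB p σ x : {x // ¬ p x}) : α) = σ.1 x := rfl

theorem eq_mul (σ : St p) : (σ : Perm α) = ofSubtype (rA p σ) * ofSubtype (rB p σ) := by
  ext x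
  rw [Perm.mul_apply]
  by_cases hx : p x
  · rw [ofSubtype_apply_of_not_mem (rB p σ) (by simpa using hx), ofSubtype_apply_of_mem _ hx, rA_apply]
  · have h1 : ¬ p (σ.1 x) := (not_congr (σ.2 x)).2 hx
    rw [ofSubtype_apply_of_mem (rB p σ) hx, rB_apply, ofSubtype_apply_of_not_mem (rA p σ) h1]

theorem disj (s : Perm {x // p x}) (t : Perm {x // ¬ p x}) :
    Perm.Disjoint (ofSubtype s) (ofSubtype t) := by
  intro x
  by_cases hx : p x
  · right; exact ofSubtype_apply_of_not_mem t (by simpa using hx)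
  · left; exact ofSubtype_apply_of_not_mem s hx

theorem cycleType_eq (σ : St p) : (σ : Perm α).cycleType = (rA p σ).cycleType + (rB p σ).cycleType := by
  conv_lhs => rw [eq_mul p σ]
  rw [(disj p _ _).cycleType_mul, cycleType_ofSubtype, cycleType_ofSubtype]

theorem sign_eq (σ : St p) : sign (σ : Perm α) = sign (rA p σ) * sign (rB p σ) := by
  conv_lhs => rw [eq_mul p σ]
  rw [Perm.sign_mul, sign_ofSubtype, sign_ofSubtype]

theorem of_mem (s : Perm {x // p x}) : ofSubtype s ∈ St p := by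
  intro x
  by_cases hx : p x
  · rw [ofSubtype_apply_of_mem s hx]
    exact iff_of_true (s ⟨x, hx⟩).2 hx
  · rw [ofSubtype_apply_of_not_mem s hx]

theorem of_mem' (s : Perm {x // ¬ p x}) : ofSubtype s ∈ St p := by
  intro x
  by_cases hx : ¬ p x
  · rw [ofSubtype_apply_of_mem s hx]
    exact iff_of_false (s ⟨x, hx⟩).2 hx
  · rw [ofSubtype_apply_of_not_mem s hx]

/-- the even elements -/
def Ev : Subgroup (Perm {x // p x} × Perm {x // ¬ p x}) :=
  MonoidHom.ker ((sign.comp (MonoidHom.fst _ _)) * (sign.comp (MonoidHom.snd _ _)))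

theorem mem_Ev (x : Perm {x // p x} × Perm {x // ¬ p x}) : x ∈ Ev p ↔ sign x.1 * sign x.2 = 1 := Iff.rfl

theorem card_Ev (hnt : Nontrivial {x // ¬ p x}) :
    2 * Nat.card (Ev p) = (Fintype.card {x // p x}).factorial * (Fintype.card {x // ¬ p x}).factorial := by
  have h1 : Nat.card (Ev p) * (Ev p).index = Nat.card (Perm {x // p x} × Perm {x // ¬ p x}) := Subgroup.card_mul_index _
  have h2 : (Ev p).index = 2 := by
    rw [Ev, Subgroup.index_ker]
    have h3 : (((sign.comp (MonoidHom.fst (Perm {x // p x}) (Perm {x // ¬ p x}))) *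
        (sign.comp (MonoidHom.snd (Perm {x // p x}) (Perm {x // ¬ p x})))).range) = ⊤ := by
      rw [MonoidHom.range_eq_top]
      intro e
      obtain ⟨τ, hτ⟩ := sign_surjective {x // ¬ p x} e
      refine ⟨(1, τ), ?_⟩
      change sign (1 : Perm {x // p x}) * sign τ = e
      rw [Perm.sign_one, one_mul, hτ]
    rw [h3, Nat.card_congr Subgroup.topEquiv.toEquiv]
    simp
  rw [h2, Nat.card_prod, Nat.card_perm, Nat.card_perm, Nat.card_eq_fintype_card (α := {x // p x}),
    Nat.card_eq_fintype_card (α := {x // ¬ p x})] at h1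
  rw [← h1, mul_comm]

end st

/-! ### subgroups of index two of the stabilizer -/

section two

variable {Δ : Finset (Fin 7)} {R K : Subgroup (alternatingGroup (Fin 7))}

theorem card_not_mem (Δ : Finset (Fin 7)) : Fintype.card {x // ¬ x ∈ Δ} = 7 - Δ.card := by
  rw [Fintype.card_subtype_compl, Fintype.card_fin, Fintype.card_coe]

/-- if `R` has index two in `K` and `K` has the order of the full stabilizer of a set, and `R` contains an element which is
odd on this set (if it has at least two elements), then `K ≤ R` -/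
theorem le_of_index_two {p : Fin 7 → Prop} [DecidablePred p] {k : ℕ} (hcA : Fintype.card {x // p x} = k)
    (hcB : Fintype.card {x // ¬ p x} = 7 - k) (hK : ∀ g ∈ K, ∀ x, p ((g : Perm (Fin 7)) x) ↔ p x) (hk : k ≤ 3)
    (hcard : k.factorial * (7 - k).factorial ≤ 2 * Nat.card K) (hsq : ∀ g ∈ K, g * g ∈ R)
    (hx : k = 1 ∨ ∃ x ∈ R, x ∈ K ∧ (x : Perm (Fin 7)).cycleType = {4, 2}) : K ≤ R := by
  have hntB : Nontrivial {x // ¬ p x} := Fintype.one_lt_card_iff_nontrivial.1 (by rw [hcB]; omega)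
  let f : K →* Perm {x // p x} × Perm {x // ¬ p x} :=
    ((rA p).prod (rB p)).comp (((alternatingGroup (Fin 7)).subtype.comp K.subtype).codRestrict (St p)
      (fun g => hK g g.2))
  have hf1 : ∀ g : K, (f g).1 = rA p ⟨((g : alternatingGroup (Fin 7)) : Perm (Fin 7)), hK g g.2⟩ := fun g => rfl
  have hf2 : ∀ g : K, (f g).2 = rB p ⟨((g : alternatingGroup (Fin 7)) : Perm (Fin 7)), hK g g.2⟩ := fun g => rfl
  have hmul : ∀ g : K, ((g : alternatingGroup (Fin 7)) : Perm (Fin 7)) = ofSubtype (f g).1 * ofSubtype (f g).2 :=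
    fun g => eq_mul p ⟨_, hK g g.2⟩
  have hfi : Function.Injective f := by
    intro g h hgh
    apply Subtype.ext
    apply Subtype.ext
    rw [hmul g, hmul h, hgh]
  have hfE : ∀ g : K, f g ∈ Ev p := by
    intro g
    rw [mem_Ev, hf1, hf2, ← sign_eq]
    exact mem_alternatingGroup.1 (g : alternatingGroup (Fin 7)).2
  have hrange : f.range = Ev p := by
    refine Subgroup.eq_of_le_of_card_ge ?_ ?_
    · rintro _ ⟨g, rfl⟩
      exact hfE g
    · have h1 := card_Ev p hntB
      rw [hcA, hcB] at h1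
      have h2 : Nat.card f.range = Nat.card K := (Nat.card_congr (MonoidHom.ofInjective hfi).toEquiv).symm
      rw [h2]
      omega
  -- even permutations with square in `R`
  obtain ⟨R', hR'⟩ : ∃ R' : Subgroup (Perm (Fin 7)), R' = R.map (alternatingGroup (Fin 7)).subtype := ⟨_, rfl⟩
  have hmemR : ∀ g : alternatingGroup (Fin 7), (g : Perm (Fin 7)) ∈ R' ↔ g ∈ R := by
    intro g
    rw [hR']
    exact Subgroup.mem_map_iff_mem (alternatingGroup (Fin 7)).subtype_injective
  have hthree : ∀ g : K, ((g : alternatingGroup (Fin 7)) : Perm (Fin 7)).IsThreeCycle →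
      ((g : alternatingGroup (Fin 7)) : Perm (Fin 7)) ∈ R' := by
    intro g hg
    rw [hmemR]
    have h1 : (g : alternatingGroup (Fin 7)) * g * (g * g) = g := by
      apply Subtype.ext
      have h2 := pow_orderOf_eq_one ((g : alternatingGroup (Fin 7)) : Perm (Fin 7))
      rw [hg.orderOf] at h2
      have h3 : ((g : alternatingGroup (Fin 7)) : Perm (Fin 7)) * g * (g * g) =
          ((g : alternatingGroup (Fin 7)) : Perm (Fin 7)) ^ 3 * g := by
        rw [pow_three]; group
      simp only [Subgroup.coe_mul]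
      rw [h3, h2, one_mul]
    rw [← h1]
    exact hsq _ (K.mul_mem g.2 g.2) |> fun h => by
      have h4 := R.mul_mem (hsq g g.2) (hsq g g.2)
      exact h4
  have hlift : ∀ x : Perm {x // p x} × Perm {x // ¬ p x}, x ∈ Ev p → ∃ g : K, f g = x := by
    intro x hx
    rw [← hrange] at hx
    exact hx
  have hA : ∀ s : Perm {x // p x}, sign s = 1 → ofSubtype s ∈ R' := by
    intro s hs
    have h1 : s ∈ alternatingGroup {x // p x} := mem_alternatingGroup.2 hs
    rw [← closure_three_cycles_eq_alternating] at h1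
    have h2 : (alternatingGroup {x // p x}) ≤ R'.comap ofSubtype := by
      rw [← closure_three_cycles_eq_alternating, Subgroup.closure_le]
      intro σ hσ
      obtain ⟨g, hg⟩ := hlift (σ, 1) (by rw [mem_Ev, Perm.sign_one, mul_one]; exact hσ.sign)
      have h3 := hmul g
      rw [hg] at h3
      simp only [map_one, mul_one] at h3
      change ofSubtype σ ∈ R'
      rw [← h3]
      apply hthree
      rw [h3]
      unfold IsThreeCycle
      rw [cycleType_ofSubtype]
      exact hσ
    rw [closure_three_cycles_eq_alternating] at h1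
    exact h2 h1
  have hB : ∀ s : Perm {x // ¬ p x}, sign s = 1 → ofSubtype s ∈ R' := by
    intro s hs
    have h1 : s ∈ alternatingGroup {x // ¬ p x} := mem_alternatingGroup.2 hs
    have h2 : (alternatingGroup {x // ¬ p x}) ≤ R'.comap ofSubtype := by
      rw [← closure_three_cycles_eq_alternating, Subgroup.closure_le]
      intro σ hσ
      obtain ⟨g, hg⟩ := hlift (1, σ) (by rw [mem_Ev, Perm.sign_one, one_mul]; exact hσ.sign)
      have h3 := hmul g
      rw [hg] at h3
      simp only [map_one, one_mul] at h3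
      change ofSubtype σ ∈ R'
      rw [← h3]
      apply hthree
      rw [h3]
      unfold IsThreeCycle
      rw [cycleType_ofSubtype]
      exact hσ
    exact h2 h1
  have hone : ∀ g : K, sign (f g).1 = 1 → (g : alternatingGroup (Fin 7)) ∈ R := by
    intro g hg
    rw [← hmemR, hmul g]
    have h1 := hfE g
    rw [mem_Ev, hg, one_mul] at h1
    exact R'.mul_mem (hA _ hg) (hB _ h1)
  intro g hg
  rcases hx with hx | ⟨x, hxR, hxK, hxc⟩
  · refine hone ⟨g, hg⟩ ?_
    have : Subsingleton {x // p x} := Fintype.card_le_one_iff_subsingleton.1 (by rw [hcA, hx])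
    rw [Subsingleton.elim (f ⟨g, hg⟩).1 1, Perm.sign_one]
  · by_cases hΔ1 : k = 1
    · refine hone ⟨g, hg⟩ ?_
      have : Subsingleton {x // p x} := Fintype.card_le_one_iff_subsingleton.1 (by rw [hcA, hΔ1])
      rw [Subsingleton.elim (f ⟨g, hg⟩).1 1, Perm.sign_one]
    by_cases hΔ0 : k = 0
    · refine hone ⟨g, hg⟩ ?_
      have : Subsingleton {x // p x} := Fintype.card_le_one_iff_subsingleton.1 (by rw [hcA, hΔ0]; norm_num)
      rw [Subsingleton.elim (f ⟨g, hg⟩).1 1, Perm.sign_one]
    have hxs : sign (f ⟨x, hxK⟩).1 = -1 := by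
      have h1 := cycleType_eq p ⟨(x : Perm (Fin 7)), hK x hxK⟩
      rw [hxc] at h1
      have h2 : (f ⟨x, hxK⟩).1.cycleType + (f ⟨x, hxK⟩).2.cycleType = {4, 2} := h1.symm
      have h3 : (f ⟨x, hxK⟩).1.cycleType ≤ {4, 2} := by rw [← h2]; exact Multiset.le_add_right _ _
      have h4 : (f ⟨x, hxK⟩).1.cycleType.sum ≤ k := by
        rw [sum_cycleType, ← hcA]
        exact Finset.card_le_univ _
      have h5 : (f ⟨x, hxK⟩).2.cycleType.sum ≤ 7 - k := by
        rw [sum_cycleType, ← hcB]
        exact Finset.card_le_univ _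
      have h6 : (f ⟨x, hxK⟩).1.cycleType.sum + (f ⟨x, hxK⟩).2.cycleType.sum = 6 := by
        rw [← Multiset.sum_add, h2]; rfl
      have h7 : (f ⟨x, hxK⟩).1.cycleType = {2} := by
        rcases le_cons_cases h3 with h8 | ⟨t, ht, h8⟩
        · rw [Multiset.le_singleton] at h8
          rcases h8 with h8 | h8
          · rw [h8] at h6
            rw [Multiset.sum_zero] at h6
            omega
          · exact h8
        · rw [h8, Multiset.sum_cons] at h4
          omega
      rw [sign_of_cycleType, h7]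
      rfl
    by_cases hg1 : sign (f ⟨g, hg⟩).1 = 1
    · exact hone ⟨g, hg⟩ hg1
    · have hg2 : sign (f ⟨g, hg⟩).1 = -1 := (Int.units_eq_one_or _).resolve_left hg1
      have h1 : (g * x⁻¹) ∈ R := by
        refine hone ⟨g * x⁻¹, K.mul_mem hg (K.inv_mem hxK)⟩ ?_
        have h2 : (⟨g * x⁻¹, K.mul_mem hg (K.inv_mem hxK)⟩ : K) = ⟨g, hg⟩ * (⟨x, hxK⟩)⁻¹ := rfl
        rw [h2, map_mul, map_inv, Prod.fst_mul, Prod.fst_inv, Perm.sign_mul, Perm.sign_inv, hg2, hxs]
        rfl
      have h2 := R.mul_mem h1 hxR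
      rwa [inv_mul_cancel_right] at h2

/-- the order of a group preserving a set -/
theorem card_dvd {p : Fin 7 → Prop} [DecidablePred p] {k : ℕ} (hcA : Fintype.card {x // p x} = k)
    (hcB : Fintype.card {x // ¬ p x} = 7 - k) (hK : ∀ g ∈ K, ∀ x, p ((g : Perm (Fin 7)) x) ↔ p x) (hk : k ≤ 3) :
    2 * Nat.card K ∣ k.factorial * (7 - k).factorial := by
  classical
  have hntB : Nontrivial {x // ¬ p x} := Fintype.one_lt_card_iff_nontrivial.1 (by rw [hcB]; omega)
  let f : K →* Perm {x // p x} × Perm {x // ¬ p x} :=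
    ((rA p).prod (rB p)).comp (((alternatingGroup (Fin 7)).subtype.comp K.subtype).codRestrict (St p)
      (fun g => hK g g.2))
  have hmul : ∀ g : K, ((g : alternatingGroup (Fin 7)) : Perm (Fin 7)) = ofSubtype (f g).1 * ofSubtype (f g).2 :=
    fun g => eq_mul p ⟨_, hK g g.2⟩
  have hfi : Function.Injective f := by
    intro g h hgh
    apply Subtype.ext
    apply Subtype.ext
    rw [hmul g, hmul h, hgh]
  have hfE : f.range ≤ Ev p := by
    rintro _ ⟨g, rfl⟩
    have h0 : f g = (rA p ⟨((g : alternatingGroup (Fin 7)) : Perm (Fin 7)), hK g g.2⟩,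
      rB p ⟨((g : alternatingGroup (Fin 7)) : Perm (Fin 7)), hK g g.2⟩) := rfl
    rw [mem_Ev, h0, ← sign_eq]
    exact mem_alternatingGroup.1 (g : alternatingGroup (Fin 7)).2
  have h1 := card_Ev p hntB
  rw [hcA, hcB] at h1
  rw [← h1]
  refine Nat.mul_dvd_mul_left 2 ?_
  rw [Nat.card_congr (MonoidHom.ofInjective hfi).toEquiv]
  exact Subgroup.card_dvd_of_le hfE

theorem contra_of_dvd {p : Fin 7 → Prop} [DecidablePred p] {k d : ℕ} (hcA : Fintype.card {x // p x} = k)
    (hcB : Fintype.card {x // ¬ p x} = 7 - k) (hK : ∀ g ∈ K, ∀ x, p ((g : Perm (Fin 7)) x) ↔ p x) (hk : k ≤ 3)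
    (hRK : R < K) (hd : d ∣ Nat.card R) (hd4 : k.factorial * (7 - k).factorial = 4 * d) (hd0 : 0 < d)
    (hx : k = 1 ∨ ¬ Miss R {4, 2}) : False := by
  have h1 := card_dvd hcA hcB hK hk
  rw [hd4] at h1
  have h2 : Nat.card K ∣ 2 * d := by
    have : 2 * Nat.card K ∣ 2 * (2 * d) := by rw [← mul_assoc]; exact h1
    exact Nat.dvd_of_mul_dvd_mul_left (by norm_num) this
  have h3 : (R.subgroupOf K).index * Nat.card R = Nat.card K := by
    rw [mul_comm, ← Nat.card_congr (Subgroup.subgroupOfEquivOfLe hRK.le).toEquiv]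
    exact Subgroup.card_mul_index _
  have h4 : (R.subgroupOf K).index ≠ 1 := by
    rw [Ne, Subgroup.index_eq_one, Subgroup.subgroupOf_eq_top]
    exact not_le_of_gt hRK
  obtain ⟨e, he⟩ := hd
  obtain ⟨i, hi⟩ : ∃ i, i = (R.subgroupOf K).index := ⟨_, rfl⟩
  rw [← hi] at h3 h4
  have h5 : i * e ∣ 2 := by
    rw [← h3, he] at h2
    have : d * (i * e) ∣ d * 2 := by
      rw [show d * (i * e) = i * (d * e) by ring, mul_comm d 2]
      exact h2
    exact Nat.dvd_of_mul_dvd_mul_left hd0 this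
  have h6 : i = 2 := by
    have h7 := (Nat.dvd_prime Nat.prime_two).1 ((Dvd.intro _ rfl).trans h5)
    exact h7.resolve_left h4
  have h7 : e = 1 := by
    rw [h6] at h5
    have := Nat.dvd_of_mul_dvd_mul_left (by norm_num : 0 < 2) (show 2 * e ∣ 2 * 1 by simpa using h5)
    exact Nat.dvd_one.1 this
  have h8 : Nat.card K = 2 * d := by rw [← h3, h6, he, h7, mul_one]
  refine not_le_of_gt hRK (le_of_index_two hcA hcB hK hk (by rw [hd4, h8]; omega) ?_ ?_)
  · intro g hg
    have h9 : (R.subgroupOf K).index = 2 := by rw [← hi, h6]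
    have h10 := Subgroup.mul_self_mem_of_index_two h9 (⟨g, hg⟩ : K)
    exact h10
  · rcases hx with hx | hx
    · exact Or.inl hx
    · right
      obtain ⟨x, hx⟩ := exists_of_not_miss hx
      exact ⟨x, x.2, hRK.le x.2, hx⟩

end two

/-! ### the missing types -/

theorem alt7_7 : IsAlt 7 {7} := alt_one (by norm_num) (by norm_num) (by decide)
theorem alt7_5 : IsAlt 7 {5} := alt_one (by norm_num) (by norm_num) (by decide)
theorem alt7_3 : IsAlt 7 {3} := alt_one (by norm_num) (by norm_num) (by decide)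
theorem alt7_33 : IsAlt 7 {3, 3} := alt_two (by norm_num) (by norm_num) (by norm_num) (by decide)
theorem alt7_42 : IsAlt 7 {4, 2} := alt_two (by norm_num) (by norm_num) (by norm_num) (by decide)
theorem alt7_322 : IsAlt 7 {3, 2, 2} := alt_three (by norm_num) (by norm_num) (by norm_num) (by norm_num) (by decide)

theorem seven_intrans {R M : Subgroup (alternatingGroup (Fin 7))} (hRM : R < M) {Δ : Finset (Fin 7)}
    (hinv : ∀ g ∈ M, ∀ x ∈ Δ, (g : Perm (Fin 7)) x ∈ Δ) (h1 : 1 ≤ Δ.card) (h2 : 2 * Δ.card ≤ 7) :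
    Three (alternatingGroup (Fin 7)) R := by
  classical
  by_contra hcon
  have hinvR : ∀ g ∈ R, ∀ x ∈ Δ, (g : Perm (Fin 7)) x ∈ Δ := fun g hg => hinv g (hRM.le hg)
  have hiff : ∀ g ∈ M, ∀ x, (g : Perm (Fin 7)) x ∈ Δ ↔ x ∈ Δ := by
    intro g hg x
    refine ⟨fun h => ?_, hinv g hg x⟩
    have h3 := hinv g⁻¹ (M.inv_mem hg) _ h
    rw [Subgroup.coe_inv, Equiv.Perm.inv_def, Equiv.symm_apply_apply] at h3
    exact h3
  have m7 : Miss R {7} := miss_one hinvR (by omega) (by omega)
  obtain ⟨p, hp⟩ : ∃ p : Fin 7 → Prop, ∀ x, p x ↔ x ∈ Δ := ⟨fun x => x ∈ Δ, fun _ => Iff.rfl⟩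
  have hcA : Fintype.card {x // p x} = Δ.card := by
    rw [Fintype.card_subtype]
    congr 1
    ext x
    simp [hp]
  have hcB : Fintype.card {x // ¬ p x} = 7 - Δ.card := by
    rw [Fintype.card_subtype_compl, Fintype.card_fin, hcA]
  have hKp : ∀ g ∈ M, ∀ x, p ((g : Perm (Fin 7)) x) ↔ p x := by
    intro g hg x
    rw [hp, hp]; exact hiff g hg x
  have hkk : Δ.card = 1 ∨ Δ.card = 2 ∨ Δ.card = 3 := by omega
  rcases hkk with hk | hk | hk
  · have m2 : Miss R {3, 2, 2} := miss_three hinvR (by omega)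
    have key : ∀ c : Multiset ℕ, ({7} : Multiset ℕ) ≠ c → ({3, 2, 2} : Multiset ℕ) ≠ c → IsAlt 7 c → ¬ Miss R c :=
      fun c h3 h4 h5 h6 => hcon (three_of_miss (by norm_num) ne13 h3 h4 alt7_7 alt7_322 h5 m7 m2 h6)
    have n5 := key {5} (ne11 (by norm_num)) (Ne.symm ne13) alt7_5
    have n42 := key {4, 2} ne12 (Ne.symm ne23) alt7_42
    have n3 := key {3} (ne11 (by norm_num)) (Ne.symm ne13) alt7_3
    have n33 := key {3, 3} ne12 (Ne.symm ne23) alt7_33
    have d5 : 5 ∣ Nat.card R := dvd_of_not_miss n5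
    have d4 : 4 ∣ Nat.card R := dvd_of_not_miss n42
    have d9 : 9 ∣ Nat.card R := nine_dvd n3 n33
    refine contra_of_dvd (k := 1) (d := 180) (hcA.trans hk) (by rw [hcB, hk]) hKp (by norm_num) hRM ?_ (by decide)
      (by norm_num) (Or.inl rfl)
    have h3 : 4 * 5 ∣ Nat.card R := Nat.Coprime.mul_dvd_of_dvd_of_dvd (by norm_num) d4 d5
    exact Nat.Coprime.mul_dvd_of_dvd_of_dvd (by norm_num) h3 d9
  · have m2 : Miss R {3, 3} := miss_two hinvR (by omega) (by omega) (by omega) (by omega)
    have key : ∀ c : Multiset ℕ, ({7} : Multiset ℕ) ≠ c → ({3, 3} : Multiset ℕ) ≠ c → IsAlt 7 c → ¬ Miss R c :=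
      fun c h3 h4 h5 h6 => hcon (three_of_miss (by norm_num) ne12 h3 h4 alt7_7 alt7_33 h5 m7 m2 h6)
    have n5 := key {5} (ne11 (by norm_num)) (Ne.symm ne12) alt7_5
    have n42 := key {4, 2} ne12 (ne22 (by norm_num) (by norm_num)) alt7_42
    have n3 := key {3} (ne11 (by norm_num)) (Ne.symm ne12) alt7_3
    have d5 : 5 ∣ Nat.card R := dvd_of_not_miss n5
    have d4 : 4 ∣ Nat.card R := dvd_of_not_miss n42
    have d3 : 3 ∣ Nat.card R := dvd_of_not_miss n3
    refine contra_of_dvd (k := 2) (d := 60) (hcA.trans hk) (by rw [hcB, hk]) hKp (by norm_num) hRM ?_ (by decide)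
      (by norm_num) (Or.inr n42)
    have h3 : 4 * 5 ∣ Nat.card R := Nat.Coprime.mul_dvd_of_dvd_of_dvd (by norm_num) d4 d5
    exact Nat.Coprime.mul_dvd_of_dvd_of_dvd (by norm_num) h3 d3
  · have m2 : Miss R {5} := miss_one hinvR (by omega) (by omega)
    have key : ∀ c : Multiset ℕ, ({7} : Multiset ℕ) ≠ c → ({5} : Multiset ℕ) ≠ c → IsAlt 7 c → ¬ Miss R c :=
      fun c h3 h4 h5 h6 => hcon (three_of_miss (by norm_num) (ne11 (by norm_num)) h3 h4 alt7_7 alt7_5 h5 m7 m2 h6)
    have n42 := key {4, 2} ne12 ne12 alt7_42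
    have n3 := key {3} (ne11 (by norm_num)) (ne11 (by norm_num)) alt7_3
    have n33 := key {3, 3} ne12 ne12 alt7_33
    have d4 : 4 ∣ Nat.card R := dvd_of_not_miss n42
    have d9 : 9 ∣ Nat.card R := nine_dvd n3 n33
    refine contra_of_dvd (k := 3) (d := 36) (hcA.trans hk) (by rw [hcB, hk]) hKp (by norm_num) hRM ?_ (by decide)
      (by norm_num) (Or.inr n42)
    exact Nat.Coprime.mul_dvd_of_dvd_of_dvd (by norm_num) d4 d9

theorem card_seven : Nat.card (alternatingGroup (Fin 7)) = 2520 := by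
  have h1 : 2 * Nat.card (alternatingGroup (Fin 7)) = Nat.factorial 7 := by
    rw [two_mul_nat_card_alternatingGroup, Nat.card_perm, Nat.card_eq_fintype_card, Fintype.card_fin]
  have h2 : Nat.factorial 7 = 5040 := by decide
  omega

/-- no proper subgroup of order divisible by 420 -/
theorem index_seven {M : Subgroup (alternatingGroup (Fin 7))} (hM : M ≠ ⊤) (h : 420 ∣ Nat.card M) : False := by
  classical
  have hs : IsSimpleGroup (alternatingGroup (Fin 7)) :=
    alternatingGroup.isSimpleGroup (by rw [Nat.card_eq_fintype_card, Fintype.card_fin]; norm_num)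
  obtain ⟨e, he⟩ := h
  have h1 := Subgroup.card_mul_index M
  rw [card_seven, he] at h1
  have h2 : M.index ≤ 6 := by
    have he0 : 0 < e := by
      rcases Nat.eq_zero_or_pos e with h0 | h0
      · rw [h0] at h1; omega
      · exact h0
    nlinarith
  let f := MulAction.toPermHom (alternatingGroup (Fin 7)) (alternatingGroup (Fin 7) ⧸ M)
  have hf : Function.Injective f := by
    rw [← MonoidHom.ker_eq_bot_iff]
    rcases IsSimpleGroup.eq_bot_or_eq_top_of_normal f.ker inferInstance with h3 | h3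
    · exact h3
    · exfalso
      apply hM
      have h4 : M.normalCore = ⊤ := by rw [Subgroup.normalCore_eq_ker]; exact h3
      exact top_le_iff.1 (h4 ▸ M.normalCore_le)
  have h3 : Nat.card (alternatingGroup (Fin 7)) ≤ Nat.card (Perm (alternatingGroup (Fin 7) ⧸ M)) :=
    Nat.card_le_card_of_injective f hf
  rw [card_seven, Nat.card_perm, ← Subgroup.index_eq_card] at h3
  have h4 := Nat.factorial_le h2
  have h5 : Nat.factorial 6 = 720 := by decide
  omega

theorem seven_trans {M : Subgroup (alternatingGroup (Fin 7))} (hM : M ≠ ⊤)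
    (htr : IsPretransitive (M.map (alternatingGroup (Fin 7)).subtype) (Fin 7)) : Three (alternatingGroup (Fin 7)) M := by
  have h7F : Fact (Nat.Prime 7) := ⟨by norm_num⟩
  have d7 : 7 ∣ Nat.card ↥(M.map (alternatingGroup (Fin 7)).subtype) := by
    have h2 := MulAction.index_stabilizer_of_transitive (↥(M.map (alternatingGroup (Fin 7)).subtype)) (0 : Fin 7)
    have h3 := Subgroup.index_dvd_card (stabilizer (↥(M.map (alternatingGroup (Fin 7)).subtype)) (0 : Fin 7))
    rwa [h2, Nat.card_fin] at h3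
  have hprim : IsPreprimitive (M.map (alternatingGroup (Fin 7)).subtype) (Fin 7) := by
    obtain ⟨g, hg⟩ := exists_prime_orderOf_dvd_card' 7 d7
    refine prim_of_mem htr (by norm_num) (l := 7) (by norm_num) (by norm_num) g.2 ?_ ?_
    · have := pow_orderOf_eq_one g
      rw [hg] at this
      exact congrArg Subtype.val this
    · intro h1
      have : g = 1 := Subtype.ext h1
      rw [this, orderOf_one] at hg
      omega
  have hcM : Nat.card ↥(M.map (alternatingGroup (Fin 7)).subtype) = Nat.card M :=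
    (Nat.card_congr (M.equivMapOfInjective _ (alternatingGroup (Fin 7)).subtype_injective).toEquiv).symm
  rw [hcM] at d7
  have m1 : Miss M {3} := miss_of_jordan (s := 0) (k := 1) (by norm_num) hM (by norm_num) (by norm_num) (by norm_num)
    (by norm_num) (by simp) fun _ _ _ _ => hprim
  have m2 : Miss M {3, 2, 2} := miss_of_jordan (s := {2, 2}) (k := 2) (by norm_num) hM (by norm_num) (by norm_num)
    (by norm_num) (by norm_num) (by simp) fun _ _ _ _ => hprim
  by_contra hcon
  have key : ∀ c : Multiset ℕ, ({3} : Multiset ℕ) ≠ c → ({3, 2, 2} : Multiset ℕ) ≠ c → IsAlt 7 c → ¬ Miss M c :=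
    fun c h3 h4 h5 h6 => hcon (three_of_miss (by norm_num) ne13 h3 h4 alt7_3 alt7_322 h5 m1 m2 h6)
  have d5 : 5 ∣ Nat.card M := dvd_of_not_miss (key {5} (ne11 (by norm_num)) (Ne.symm ne13) alt7_5)
  have d4 : 4 ∣ Nat.card M := dvd_of_not_miss (key {4, 2} ne12 (Ne.symm ne23) alt7_42)
  have d3 : 3 ∣ Nat.card M := dvd_of_not_miss (key {3, 3} ne12 (Ne.symm ne23) alt7_33)
  have h3 : 4 * 5 ∣ Nat.card M := Nat.Coprime.mul_dvd_of_dvd_of_dvd (by norm_num) d4 d5
  have h4 : 4 * 5 * 3 ∣ Nat.card M := Nat.Coprime.mul_dvd_of_dvd_of_dvd (by norm_num) h3 d3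
  exact index_seven hM (Nat.Coprime.mul_dvd_of_dvd_of_dvd (by norm_num) h4 d7)

/-- **The row of the alternating groups.** -/
theorem rowS_alt {n : ℕ} (hn : 7 ≤ n) : RowS (alternatingGroup (Fin n)) := by
  rcases Nat.lt_or_ge n 8 with h | h8
  · have h7 : n = 7 := by omega
    subst h7
    refine ⟨fun M hM => two_alt hn hM.1, fun R hR hRc => ?_⟩
    rcases eq_top_or_exists_le_coatom R with h1 | ⟨M, hM, h1⟩
    · exact absurd h1 hR
    · have hlt : R < M := lt_of_le_of_ne h1 fun h3 => hRc (h3 ▸ hM)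
      by_cases htr : IsPretransitive (M.map (alternatingGroup (Fin 7)).subtype) (Fin 7)
      · exact (seven_trans hM.1 htr).mono h1
      · obtain ⟨Δ, hinv, h2, h3⟩ := exists_orbit htr
        exact seven_intrans hlt hinv h2 h3
  · exact RowS.of_three fun M hM => three_alt h8 hM.1

end Cfsg.Agent.H546.Der
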