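import Cfsg.Agent.H439.Der.Three
import Cfsg.Agent.H548.DerAlt

/-!
# Three classes of derangements: the alternating groups of degree at least 8 (helper546, S3502, task 2982)
-/

set_option autoImplicit false
set_option linter.unusedSectionVars false

namespace Cfsg.Agent.H546.Der

open Equiv Equiv.Perm MulAction Cfsg.Agent.H439.Der Cfsg.Agent.H548.DerAlt Cfsg.Agent.H394 Cfsg.Agent.H394.SqBasic
open scoped Pointwise

variable {n : ℕ}

theorem three_of_miss (hn : 7 ≤ n) {M : Subgroup (alternatingGroup (Fin n))} {c d e : Multiset ℕ} (hcd : c ≠ d)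
    (hce : c ≠ e) (hde : d ≠ e) (hc : IsAlt n c) (hd : IsAlt n d) (he : IsAlt n e) (h1 : Miss M c) (h2 : Miss M d)
    (h3 : Miss M e) : Three (alternatingGroup (Fin n)) M := by
  obtain ⟨x, hx⟩ := exists_alt hc
  obtain ⟨y, hy⟩ := exists_alt hd
  obtain ⟨z, hz⟩ := exists_alt he
  refine ⟨x, y, z, fun φ hφ => h1 _ hφ ?_, fun φ hφ => h2 _ hφ ?_, fun φ hφ => h3 _ hφ ?_, fun φ hφ => hcd ?_,
    fun φ hφ => hce ?_, fun φ hφ => hde ?_⟩
  · rw [cycleType_aut hn, hx]
  · rw [cycleType_aut hn, hy]
  · rw [cycleType_aut hn, hz]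
  · rw [← hx, ← hy, ← hφ, cycleType_aut hn]
  · rw [← hx, ← hz, ← hφ, cycleType_aut hn]
  · rw [← hy, ← hz, ← hφ, cycleType_aut hn]

theorem alt_one {a : ℕ} (h1 : a ≤ n) (h2 : 2 ≤ a) (h3 : Odd a) : IsAlt n {a} := by
  refine ⟨by rwa [Multiset.sum_singleton], ?_, ?_⟩
  · simp only [Multiset.mem_singleton, forall_eq]; exact h2
  · rw [Multiset.sum_singleton, Multiset.card_singleton]; exact h3.add_one

theorem alt_two {a b : ℕ} (h1 : a + b ≤ n) (h2 : 2 ≤ a) (h2' : 2 ≤ b) (h3 : Even (a + b)) : IsAlt n {a, b} := by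
  refine ⟨?_, ?_, ?_⟩
  · simp only [Multiset.insert_eq_cons, Multiset.sum_cons, Multiset.sum_singleton]
    exact h1
  · simp only [Multiset.insert_eq_cons, Multiset.mem_cons, Multiset.mem_singleton, forall_eq_or_imp, forall_eq]
    exact ⟨h2, h2'⟩
  · simp only [Multiset.insert_eq_cons, Multiset.sum_cons, Multiset.sum_singleton, Multiset.card_cons,
      Multiset.card_singleton]
    exact h3.add even_two

theorem alt_three {a b c : ℕ} (h1 : a + (b + c) ≤ n) (h2 : 2 ≤ a) (h2' : 2 ≤ b) (h2'' : 2 ≤ c)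
    (h3 : Odd (a + (b + c))) : IsAlt n {a, b, c} := by
  refine ⟨?_, ?_, ?_⟩
  · simp only [Multiset.insert_eq_cons, Multiset.sum_cons, Multiset.sum_singleton]
    exact h1
  · simp only [Multiset.insert_eq_cons, Multiset.mem_cons, Multiset.mem_singleton, forall_eq_or_imp, forall_eq]
    exact ⟨h2, h2', h2''⟩
  · simp only [Multiset.insert_eq_cons, Multiset.sum_cons, Multiset.sum_singleton, Multiset.card_cons,
      Multiset.card_singleton]
    exact h3.add_odd (by decide)

theorem ne_of_card {c d : Multiset ℕ} (h : Multiset.card c ≠ Multiset.card d) : c ≠ d := fun h1 => h (by rw [h1])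

theorem ne12 {a b c : ℕ} : ({a} : Multiset ℕ) ≠ {b, c} := ne_of_card (by simp)
theorem ne13 {a b c d : ℕ} : ({a} : Multiset ℕ) ≠ {b, c, d} := ne_of_card (by simp)
theorem ne23 {a b c d e : ℕ} : ({a, b} : Multiset ℕ) ≠ {c, d, e} := ne_of_card (by simp)

theorem ne11 {a b : ℕ} (h : a ≠ b) : ({a} : Multiset ℕ) ≠ {b} := fun h1 => h (Multiset.singleton_inj.1 h1)

theorem ne22 {a b c d : ℕ} (h1 : a ≠ c) (h2 : a ≠ d) : ({a, b} : Multiset ℕ) ≠ {c, d} := by
  intro h
  have h3 : a ∈ ({c, d} : Multiset ℕ) := by rw [← h]; simp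
  simp only [Multiset.insert_eq_cons, Multiset.mem_cons, Multiset.mem_singleton] at h3
  omega

theorem ne33 {a b c d e f : ℕ} (h1 : a ≠ d) (h2 : a ≠ e) (h3 : a ≠ f) : ({a, b, c} : Multiset ℕ) ≠ {d, e, f} := by
  intro h
  have h3 : a ∈ ({d, e, f} : Multiset ℕ) := by rw [← h]; simp
  simp only [Multiset.insert_eq_cons, Multiset.mem_cons, Multiset.mem_singleton] at h3
  omega

section

variable {M : Subgroup (alternatingGroup (Fin n))} {Δ : Finset (Fin n)}

theorem miss_three {a b c : ℕ} (hinv : ∀ g ∈ M, ∀ x ∈ Δ, (g : Perm (Fin n)) x ∈ Δ)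
    (h : ∀ s : ℕ, (s = 0 ∨ s = a ∨ s = b ∨ s = c ∨ s = a + b ∨ s = a + c ∨ s = b + c ∨ s = a + b + c) →
      s ≤ Δ.card → n < Δ.card + (a + (b + c)) - s) : Miss M {a, b, c} := by
  intro g hg hc
  obtain ⟨c₁, hc₁, h4, h5⟩ := sub_type (hinv g hg)
  rw [hc] at hc₁ h5
  have h6 : ({a, b, c} : Multiset ℕ).sum = a + (b + c) := by simp
  rw [h6] at h5
  have h7 := h c₁.sum (sum_three hc₁) h4
  omega

/-- intransitive groups -/
theorem three_of_intrans (hn : 8 ≤ n) (hinv : ∀ g ∈ M, ∀ x ∈ Δ, (g : Perm (Fin n)) x ∈ Δ) (h1 : 1 ≤ Δ.card)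
    (h2 : 2 * Δ.card ≤ n) : Three (alternatingGroup (Fin n)) M := by
  have hn7 : 7 ≤ n := by omega
  rcases Nat.even_or_odd n with he | ho
  · have a1 : IsAlt n {n - 1} := alt_one (by omega) (by omega) (Nat.Even.sub_odd (by omega) he odd_one)
    have a2 : IsAlt n {n - 3, 3} := alt_two (by omega) (by omega) (by omega) (by rwa [Nat.sub_add_cancel (by omega)])
    have a3 : IsAlt n {n - 2, 2} := alt_two (by omega) (by omega) (by omega) (by rwa [Nat.sub_add_cancel (by omega)])
    have a4 : IsAlt n {n - 4, 4} := alt_two (by omega) (by omega) (by omega) (by rwa [Nat.sub_add_cancel (by omega)])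
    by_cases hk1 : Δ.card = 1
    · exact three_of_miss hn7 (ne22 (by omega) (by omega)) (ne22 (by omega) (by omega)) (ne22 (by omega) (by omega)) a3 a2
        a4 (miss_two hinv (by omega) (by omega) (by omega) (by omega))
        (miss_two hinv (by omega) (by omega) (by omega) (by omega))
        (miss_two hinv (by omega) (by omega) (by omega) (by omega))
    by_cases hk2 : Δ.card = 2
    · exact three_of_miss hn7 ne12 ne12 (ne22 (by omega) (by omega)) a1 a2 a4 (miss_one hinv (by omega) (by omega))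
        (miss_two hinv (by omega) (by omega) (by omega) (by omega))
        (miss_two hinv (by omega) (by omega) (by omega) (by omega))
    by_cases hk3 : Δ.card = 3
    · exact three_of_miss hn7 ne12 ne12 (ne22 (by omega) (by omega)) a1 a3 a4 (miss_one hinv (by omega) (by omega))
        (miss_two hinv (by omega) (by omega) (by omega) (by omega))
        (miss_two hinv (by omega) (by omega) (by omega) (by omega))
    · exact three_of_miss hn7 ne12 ne12 (ne22 (by omega) (by omega)) a1 a3 a2 (miss_one hinv (by omega) (by omega))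
        (miss_two hinv (by omega) (by omega) (by omega) (by omega))
        (miss_two hinv (by omega) (by omega) (by omega) (by omega))
  · have hn9 : 9 ≤ n := by
      rcases Nat.lt_or_ge n 9 with h | h
      · have : n = 8 := by omega
        subst this
        exact absurd ho (by decide)
      · exact h
    have a1 : IsAlt n {n} := alt_one le_rfl (by omega) ho
    have m1 : Miss M {n} := miss_one hinv (by omega) (by omega)
    by_cases hk1 : Δ.card = 1
    · have a2 : IsAlt n {n - 4, 2, 2} := alt_three (by omega) (by omega) (by omega) (by omega)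
        (by rwa [Nat.sub_add_cancel (by omega)])
      have a3 : IsAlt n {n - 5, 3, 2} := alt_three (by omega) (by omega) (by omega) (by omega)
        (by rwa [Nat.sub_add_cancel (by omega)])
      exact three_of_miss hn7 ne13 ne13 (ne33 (by omega) (by omega) (by omega)) a1 a2 a3 m1
        (miss_three hinv (by omega)) (miss_three hinv (by omega))
    by_cases hk2 : Δ.card = 2
    · have a2 : IsAlt n {n - 4, 3} := alt_two (by omega) (by omega) (by omega) (by
        rw [show n - 4 + 3 = n - 1 by omega]; exact Nat.Odd.sub_odd ho odd_one)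
      have a3 : IsAlt n {n - 6, 3, 3} := alt_three (by omega) (by omega) (by omega) (by omega)
        (by rwa [Nat.sub_add_cancel (by omega)])
      exact three_of_miss hn7 ne12 ne13 ne23 a1 a2 a3 m1 (miss_two hinv (by omega) (by omega) (by omega) (by omega))
        (miss_three hinv (by omega))
    have a2 : IsAlt n {n - 2} := alt_one (by omega) (by omega) (Nat.Odd.sub_even (by omega) ho even_two)
    have m2 : Miss M {n - 2} := miss_one hinv (by omega) (by omega)
    by_cases hk3 : Δ.card = 3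
    · have a3 : IsAlt n {n - 4, 2, 2} := alt_three (by omega) (by omega) (by omega) (by omega)
        (by rwa [Nat.sub_add_cancel (by omega)])
      exact three_of_miss hn7 (ne11 (by omega)) ne13 ne13 a1 a2 a3 m1 m2 (miss_three hinv (by omega))
    · have a3 : IsAlt n {n - 3, 2} := alt_two (by omega) (by omega) (by omega) (by
        rw [show n - 3 + 2 = n - 1 by omega]; exact Nat.Odd.sub_odd ho odd_one)
      exact three_of_miss hn7 (ne11 (by omega)) ne12 ne12 a1 a2 a3 m1 m2
        (miss_two hinv (by omega) (by omega) (by omega) (by omega))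

end

theorem exists_prime_four {n : ℕ} (hn : 8 ≤ n) : (∃ p : ℕ, p.Prime ∧ n < 2 * p ∧ p + 4 ≤ n) ∨ n = 8 ∨ n = 10 ∨ n = 14 := by
  rcases Nat.lt_or_ge n 46 with h | h
  · rcases Nat.lt_or_ge n 11 with h1 | h1
    · by_cases h9 : n = 9
      · exact Or.inl ⟨5, by norm_num, by omega, by omega⟩
      · exact Or.inr (by omega)
    rcases Nat.lt_or_ge n 14 with h2 | h2
    · exact Or.inl ⟨7, by norm_num, by omega, by omega⟩
    rcases Nat.lt_or_ge n 15 with h2' | h2'
    · exact Or.inr (by omega)
    rcases Nat.lt_or_ge n 22 with h3 | h3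
    · exact Or.inl ⟨11, by norm_num, by omega, by omega⟩
    rcases Nat.lt_or_ge n 34 with h4 | h4
    · exact Or.inl ⟨17, by norm_num, by omega, by omega⟩
    · exact Or.inl ⟨23, by norm_num, by omega, by omega⟩
  · obtain ⟨r, s, hr, -, h1, h2, h3⟩ := Cfsg.Agent.H357.NT.two_primes (n := n - 4) (by omega)
    exact Or.inl ⟨r, hr, by omega, by omega⟩

section

variable {M : Subgroup (alternatingGroup (Fin n))}

/-- no element of large prime order in an imprimitive group -/
theorem miss_large (hn : 7 ≤ n) (htr : IsPretransitive (M.map (alternatingGroup (Fin n)).subtype) (Fin n))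
    (hnp : ¬ IsPreprimitive (M.map (alternatingGroup (Fin n)).subtype) (Fin n)) {p : ℕ} (hp : p.Prime) (h2p : n < 2 * p)
    {s : Multiset ℕ} : Miss M (p ::ₘ s) := by
  intro g hg hc
  apply hnp
  obtain ⟨k, hk⟩ : p ∣ orderOf (g : Perm (Fin n)) := by
    rw [← lcm_cycleType, hc]
    exact Multiset.dvd_lcm (Multiset.mem_cons_self _ _)
  have ho := orderOf_pos (g : Perm (Fin n))
  have hk0 : 0 < k := by
    rcases Nat.eq_zero_or_pos k with h | h
    · rw [h, mul_zero] at hk; omega
    · exact h
  refine prim_of_mem htr (by omega) hp h2p (h := (g : Perm (Fin n)) ^ k) ⟨g ^ k, pow_mem hg k, rfl⟩ ?_ ?_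
  · rw [← pow_mul, mul_comm, ← hk, pow_orderOf_eq_one]
  · intro h1
    have h2 := Nat.le_of_dvd hk0 (orderOf_dvd_of_pow_eq_one h1)
    rw [hk] at h2
    have := hp.two_le
    nlinarith

/-- an `(n-1)`-cycle lies in no imprimitive group -/
theorem miss_pred (hn : 7 ≤ n) (htr : IsPretransitive (M.map (alternatingGroup (Fin n)).subtype) (Fin n))
    (hnp : ¬ IsPreprimitive (M.map (alternatingGroup (Fin n)).subtype) (Fin n)) : Miss M {n - 1} := by
  classical
  intro g hg hc
  apply hnp
  have hne : Nonempty (Fin n) := ⟨⟨0, by omega⟩⟩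
  have hgM : (g : Perm (Fin n)) ∈ M.map (alternatingGroup (Fin n)).subtype := ⟨g, hg, rfl⟩
  set M' := M.map (alternatingGroup (Fin n)).subtype with hM'
  refine ⟨fun {B} hB => ?_⟩
  by_contra hnt
  rw [IsTrivialBlock, not_or] at hnt
  obtain ⟨hns, hnu⟩ := hnt
  -- the fixed point
  obtain ⟨x, hx⟩ : ∃ x, (g : Perm (Fin n)) x = x := by
    by_contra hcon
    push Not at hcon
    have h1 : (g : Perm (Fin n)).support = Finset.univ := by
      ext x
      simp only [Finset.mem_univ, iff_true]
      exact mem_support.2 (hcon x)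
    have h2 := sum_cycleType (g : Perm (Fin n))
    rw [hc, h1, Finset.card_univ, Fintype.card_fin, Multiset.sum_singleton] at h2
    omega
  -- move the block to contain `x`
  have hBne : B.Nonempty := by
    by_contra h0
    rw [Set.not_nonempty_iff_eq_empty] at h0
    exact hns (h0 ▸ Set.subsingleton_empty)
  obtain ⟨b, hb⟩ := hBne
  obtain ⟨m, hm⟩ := htr.exists_smul_eq b x
  have hxB : x ∈ m • B := by rw [← hm]; exact Set.smul_mem_smul_set hb
  have hB' : IsBlock M' (m • B) := hB.translate m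
  have hgB : (⟨(g : Perm (Fin n)), hgM⟩ : M') • (m • B) = m • B := by
    have h1 : x ∈ (⟨(g : Perm (Fin n)), hgM⟩ : M') • (m • B) := by
      have h2 : (⟨(g : Perm (Fin n)), hgM⟩ : M') • x = x := hx
      rw [← h2]
      exact Set.smul_mem_smul_set hxB
    rcases hB'.smul_eq_or_disjoint ⟨(g : Perm (Fin n)), hgM⟩ with h2 | h2
    · exact h2
    · exact absurd hxB (Set.disjoint_left.1 h2 h1)
  obtain ⟨c₁, hc₁, h4, h5⟩ := sub_type (g := (g : Perm (Fin n))) (Δ := (m • B).toFinset) (by
    intro y hy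
    rw [Set.mem_toFinset] at hy ⊢
    rw [← hgB]
    exact Set.smul_mem_smul_set hy)
  rw [hc] at hc₁ h5
  rw [Multiset.sum_singleton] at h5
  have h6 : (m • B).toFinset.card = B.ncard := by
    rw [← Set.ncard_eq_toFinset_card', Set.ncard_smul_set]
  rw [h6] at h4 h5
  have hcn : Nat.card (Fin n) = n := by rw [Nat.card_eq_fintype_card, Fintype.card_fin]
  have hBn : B.ncard < n := by
    by_contra hge
    apply hnu
    apply Set.eq_of_subset_of_ncard_le (Set.subset_univ B)
    rw [Set.ncard_univ, hcn]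
    omega
  have hB2 : 2 ≤ B.ncard := by
    rw [Nat.succ_le_iff, Set.one_lt_ncard (Set.toFinite B)]
    rw [Set.not_subsingleton_iff] at hns
    obtain ⟨a, ha, b, hb, hab⟩ := hns
    exact ⟨a, ha, b, hb, hab⟩
  have hdiv : B.ncard ∣ n := by
    have := hB.ncard_block_mul_ncard_orbit_eq ⟨b, hb⟩
    rw [hcn] at this
    exact ⟨_, this.symm⟩
  obtain ⟨k, hk⟩ := hdiv
  rcases sum_one hc₁ with h | h
  · omega
  · -- `n - 1 ≤ |B| < n`, `|B| ∣ n`
    have h7 : B.ncard = n - 1 := by omega
    have hk2 : 2 ≤ k := by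
      by_contra hlt
      have : k = 0 ∨ k = 1 := by omega
      rcases this with rfl | rfl <;> omega
    have h8 : B.ncard * 2 ≤ B.ncard * k := Nat.mul_le_mul_left _ hk2
    omega

/-- transitive groups -/
theorem three_of_trans (hn : 8 ≤ n) (hM : M ≠ ⊤)
    (htr : IsPretransitive (M.map (alternatingGroup (Fin n)).subtype) (Fin n)) : Three (alternatingGroup (Fin n)) M := by
  have hn7 : 7 ≤ n := by omega
  rcases exists_prime_four hn with ⟨p, hp, hp1, hp2⟩ | hn'
  · have hodd : Odd p := hp.odd_of_ne_two (by omega)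
    refine three_of_miss (c := {p}) (d := p ::ₘ {3}) (e := p ::ₘ {2, 2}) hn7 ne12 ne13 ne23 (alt_one (by omega) hp.two_le hodd)
      (alt_two (by omega) hp.two_le (by norm_num) (hodd.add_odd (by decide)))
      (alt_three (by omega) hp.two_le (by norm_num) (by norm_num) (hodd.add_even (by decide))) ?_ ?_ ?_
    · exact miss_of_jordan (s := 0) (k := 1) (by omega) hM hp (by omega) (by norm_num) hp.one_lt
        (by simp) fun h hh h1 h2 => prim_of_mem htr (by omega) hp hp1 hh h1 h2
    · exact miss_of_jordan (k := 3) (by omega) hM hp (by omega) (by norm_num) (by omega)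
        (by simp) fun h hh h1 h2 => prim_of_mem htr (by omega) hp hp1 hh h1 h2
    · exact miss_of_jordan (k := 2) (by omega) hM hp (by omega) (by norm_num) (by omega)
        (by simp) fun h hh h1 h2 => prim_of_mem htr (by omega) hp hp1 hh h1 h2
  · obtain ⟨p, hp, hp1, hp2⟩ := exists_prime_three hn
    have hodd : Odd p := hp.odd_of_ne_two (by omega)
    have m1 : Miss M (p ::ₘ 0) := miss_of_jordan (s := 0) (k := 1) (by omega) hM hp hp2 (by norm_num) hp.one_lt
      (by simp) fun h hh h1 h2 => prim_of_mem htr (by omega) hp hp1 hh h1 h2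
    have m2 : Miss M (p ::ₘ {3}) := miss_of_jordan (k := 3) (by omega) hM hp hp2 (by norm_num) (by omega)
      (by simp) fun h hh h1 h2 => prim_of_mem htr (by omega) hp hp1 hh h1 h2
    have b1 : IsAlt n (p ::ₘ 0) := alt_one (by omega) hp.two_le hodd
    have b2 : IsAlt n (p ::ₘ {3}) := alt_two (by omega) hp.two_le (by norm_num) (hodd.add_odd (by decide))
    by_cases hpr : IsPreprimitive (M.map (alternatingGroup (Fin n)).subtype) (Fin n)
    · refine three_of_miss (c := p ::ₘ 0) (d := p ::ₘ {3}) (e := {3}) hn7 ne12 (ne11 (by omega)) (Ne.symm ne12) b1 b2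
        (alt_one (by omega) (by norm_num) (by decide)) m1 m2 ?_
      exact miss_of_jordan (s := 0) (k := 1) (by omega) hM (by norm_num) (by omega) (by norm_num) (by norm_num)
        (by simp) fun _ _ _ _ => hpr
    · have he : Even n := by rcases hn' with rfl | rfl | rfl <;> decide
      exact three_of_miss (c := p ::ₘ 0) (d := p ::ₘ {3}) (e := {n - 1}) hn7 ne12 (ne11 (by omega)) (Ne.symm ne12) b1 b2
        (alt_one (by omega) (by omega) (Nat.Even.sub_odd (by omega) he odd_one)) m1 m2 (miss_pred hn7 htr hpr)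

/-- the orbits of an intransitive group -/
theorem exists_orbit (h : ¬ IsPretransitive (M.map (alternatingGroup (Fin n)).subtype) (Fin n)) :
    ∃ Δ : Finset (Fin n), (∀ g ∈ M, ∀ x ∈ Δ, (g : Perm (Fin n)) x ∈ Δ) ∧ 1 ≤ Δ.card ∧ 2 * Δ.card ≤ n := by
  classical
  set M' := M.map (alternatingGroup (Fin n)).subtype with hM'
  have hex : ∃ x y : Fin n, y ∉ orbit M' x := by
    by_contra h1
    push Not at h1
    apply h
    exact ⟨fun x y => h1 x y⟩
  obtain ⟨x, y, hy⟩ := hex
  let Δ : Finset (Fin n) := (orbit M' x).toFinset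
  have hinv : ∀ g ∈ M, ∀ z ∈ Δ, (g : Perm (Fin n)) z ∈ Δ := by
    intro g hg z hz
    rw [Set.mem_toFinset] at hz ⊢
    obtain ⟨m, rfl⟩ := hz
    have hgM : (g : Perm (Fin n)) ∈ M' := ⟨g, hg, rfl⟩
    refine ⟨⟨(g : Perm (Fin n)), hgM⟩ * m, ?_⟩
    change ((⟨(g : Perm (Fin n)), hgM⟩ * m : M') • x : Fin n) = _
    rw [mul_smul]
    rfl
  have hinv' : ∀ g ∈ M, ∀ z ∈ Δᶜ, (g : Perm (Fin n)) z ∈ Δᶜ := by
    intro g hg z hz
    rw [Finset.mem_compl] at hz ⊢
    intro h
    apply hz
    have := hinv g⁻¹ (inv_mem hg) _ h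
    rw [Subgroup.coe_inv, Equiv.Perm.inv_def, Equiv.symm_apply_apply] at this
    exact this
  have hx : x ∈ Δ := by rw [Set.mem_toFinset]; exact mem_orbit_self x
  have hy' : y ∈ Δᶜ := by rw [Finset.mem_compl, Set.mem_toFinset]; exact hy
  have hc : Δᶜ.card = n - Δ.card := by rw [Finset.card_compl, Fintype.card_fin]
  have h1 : 1 ≤ Δ.card := Finset.card_pos.2 ⟨x, hx⟩
  have h2 : 1 ≤ Δᶜ.card := Finset.card_pos.2 ⟨y, hy'⟩
  rcases Nat.lt_or_ge n (2 * Δ.card) with h | h
  · exact ⟨Δᶜ, hinv', h2, by omega⟩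
  · exact ⟨Δ, hinv, h1, h⟩

/-- **every proper subgroup of `Alt n`, `n ≥ 8`, misses three cycle types** -/
theorem three_alt (hn : 8 ≤ n) (hM : M ≠ ⊤) : Three (alternatingGroup (Fin n)) M := by
  by_cases htr : IsPretransitive (M.map (alternatingGroup (Fin n)).subtype) (Fin n)
  · exact three_of_trans hn hM htr
  · obtain ⟨Δ, hinv, h1, h2⟩ := exists_orbit htr
    exact three_of_intrans hn hinv h1 h2

end

end Cfsg.Agent.H546.Der
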